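import Mathlib
import Groth.Agent.EtaleDec.Iso
import Groth.Agent.DimFormulaLib.LocalDim

/-!
Quasi-finite maps from polynomial rings with prescribed preimage of a prime.
-/

set_option autoImplicit false
set_option linter.unusedSectionVars false
universe u

open TensorProduct MvPolynomial

noncomputable section

namespace Groth.Agent.QFNormLib

variable {R S : Type u} [CommRing R] [CommRing S] [Algebra R S] (p : Ideal R) [p.IsPrime]

/-- Clearing denominators in `κ(p)[x]`. -/
theorem exists_map_eq {σ : Type*} (g : MvPolynomial σ p.ResidueField) :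
    ∃ d ∉ p, ∃ G : MvPolynomial σ R,
      MvPolynomial.map (algebraMap R p.ResidueField) G = MvPolynomial.C (algebraMap R p.ResidueField d) * g := by
  induction g using MvPolynomial.induction_on with
  | C c =>
    obtain ⟨a, b, hb, rfl⟩ := IsFractionRing.div_surjective (A := R ⧸ p) c
    obtain ⟨a, rfl⟩ := Ideal.Quotient.mk_surjective a
    obtain ⟨b, rfl⟩ := Ideal.Quotient.mk_surjective b
    refine ⟨b, fun h => nonZeroDivisors.ne_zero hb (Ideal.Quotient.eq_zero_iff_mem.mpr h),
      MvPolynomial.C a, ?_⟩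
    have hb' : algebraMap R p.ResidueField b ≠ 0 := fun h =>
      nonZeroDivisors.ne_zero hb (Ideal.Quotient.eq_zero_iff_mem.mpr (Ideal.algebraMap_residueField_eq_zero.mp h))
    rw [MvPolynomial.map_C, ← MvPolynomial.C_mul,
      show algebraMap (R ⧸ p) p.ResidueField (Ideal.Quotient.mk p a) = algebraMap R p.ResidueField a from rfl,
      show algebraMap (R ⧸ p) p.ResidueField (Ideal.Quotient.mk p b) = algebraMap R p.ResidueField b from rfl,
      mul_div_cancel₀ _ hb']
  | add g h hg hh =>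
    obtain ⟨d, hd, G, hG⟩ := hg
    obtain ⟨d', hd', G', hG'⟩ := hh
    refine ⟨d * d', fun h => (‹p.IsPrime›.mem_or_mem h).elim hd hd', MvPolynomial.C d' * G + MvPolynomial.C d * G', ?_⟩
    simp only [map_add, map_mul, MvPolynomial.map_C, hG, hG']
    ring
  | mul_X g i hg =>
    obtain ⟨d, hd, G, hG⟩ := hg
    exact ⟨d, hd, G * MvPolynomial.X i, by rw [map_mul, MvPolynomial.map_X, hG, mul_assoc]⟩

/-- Rescaling a transcendence basis. -/
theorem isTranscendenceBasis_scale {k A : Type u} [Field k] [CommRing A] [IsDomain A] [Algebra k A]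
    {ι : Type u} {r : ℕ} {t : ι → A} (ht : IsTranscendenceBasis k t) (e : ι ≃ Fin r) (c : Fin r → k)
    (hc : ∀ i, c i ≠ 0) {v : Fin r → A} (hv : ∀ i, v i = algebraMap k A (c i) * t (e.symm i)) :
    IsTranscendenceBasis k v := by
  have hadj : Algebra.adjoin k (Set.range v) = Algebra.adjoin k (Set.range t) := by
    refine le_antisymm (Algebra.adjoin_le ?_) (Algebra.adjoin_le ?_)
    · rintro _ ⟨i, rfl⟩
      rw [SetLike.mem_coe, hv]
      exact mul_mem (Subalgebra.algebraMap_mem _ _) (Algebra.subset_adjoin ⟨_, rfl⟩)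
    · rintro _ ⟨j, rfl⟩
      have h1 : t j = algebraMap k A (c (e j))⁻¹ * v (e j) := by
        rw [hv, ← mul_assoc, ← map_mul, inv_mul_cancel₀ (hc _), map_one, one_mul, e.symm_apply_apply]
      rw [SetLike.mem_coe, h1]
      exact mul_mem (Subalgebra.algebraMap_mem _ _) (Algebra.subset_adjoin ⟨_, rfl⟩)
  haveI : Algebra.IsAlgebraic (Algebra.adjoin k (Set.range v)) A := by
    rw [hadj]; exact ht.isAlgebraic
  refine Algebra.IsAlgebraic.isTranscendenceBasis_of_lift_le_trdeg_of_finite k v ?_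
  rw [← ht.cardinalMk_eq_trdeg]
  exact le_of_eq (Cardinal.lift_mk_eq'.mpr ⟨e.symm⟩)

variable [Algebra.FiniteType R S]

/-- The coordinates used for a quasi-finite map. -/
theorem exists_coords (P : Ideal (p.Fiber S)) [P.IsPrime] (h r : ℕ)
    (hh : P.height = h) (hr : Algebra.trdeg p.ResidueField (p.Fiber S ⧸ P) = r) :
    ∃ (y : Fin r → S) (z : Fin h → S),
      IsTranscendenceBasis p.ResidueField (fun i => Ideal.Quotient.mk P ((1 : p.ResidueField) ⊗ₜ[R] y i)) ∧
      (∀ j, (1 : p.ResidueField) ⊗ₜ[R] z j ∈ P) ∧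
      ∀ P' : Ideal (p.Fiber S), P'.IsPrime → P' ≤ P →
        (∀ j, (1 : p.ResidueField) ⊗ₜ[R] z j ∈ P') → P' = P := by
  classical
  haveI : IsNoetherianRing (p.Fiber S) := Algebra.FiniteType.isNoetherianRing p.ResidueField _
  have hscale : ∀ x : p.Fiber S, ∃ (c : p.ResidueField) (s : S), c ≠ 0 ∧
      algebraMap p.ResidueField (p.Fiber S) c * x = (1 : p.ResidueField) ⊗ₜ[R] s := fun x => by
    obtain ⟨a, ha, s, hs⟩ := Ideal.Fiber.exists_smul_eq_one_tmul p x
    refine ⟨algebraMap R p.ResidueField a, s, fun h => ha (Ideal.algebraMap_residueField_eq_zero.mp h), ?_⟩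
    rw [← IsScalarTower.algebraMap_apply, ← Algebra.smul_def]
    exact hs
  choose c g hc hg using hscale
  -- transcendence basis
  haveI : Nontrivial (p.Fiber S ⧸ P) := Ideal.Quotient.nontrivial_iff.mpr (Ideal.IsPrime.ne_top ‹_›)
  obtain ⟨ι, t, ht⟩ := exists_isTranscendenceBasis' p.ResidueField (p.Fiber S ⧸ P)
  have hι : Cardinal.mk ι = (r : Cardinal) := by rw [ht.cardinalMk_eq_trdeg, hr]
  obtain ⟨e⟩ := Cardinal.mk_eq_nat_iff.mp hι
  choose t' ht' using fun i => Ideal.Quotient.mk_surjective (t (e.symm i))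
  let y : Fin r → S := fun i => g (t' i)
  have hy : ∀ i, Ideal.Quotient.mk P ((1 : p.ResidueField) ⊗ₜ[R] y i) =
      algebraMap p.ResidueField (p.Fiber S ⧸ P) (c (t' i)) * t (e.symm i) := fun i => by
    rw [← hg (t' i), map_mul, ht' i,
      IsScalarTower.algebraMap_apply p.ResidueField (p.Fiber S) (p.Fiber S ⧸ P), Ideal.Quotient.algebraMap_eq]
  have hyb : IsTranscendenceBasis p.ResidueField
      (fun i => Ideal.Quotient.mk P ((1 : p.ResidueField) ⊗ₜ[R] y i)) :=
    isTranscendenceBasis_scale ht e (fun i => c (t' i)) (fun i => hc _) hy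
  -- parameters
  obtain ⟨J, hJP, hJr, hJh⟩ := exists_spanRank_le_and_le_height_of_le_height P h (le_of_eq hh.symm)
  have hfg : J.FG := IsNoetherian.noetherian J
  have hcard : J.spanFinrank ≤ h := by
    rw [Submodule.fg_iff_spanRank_eq_spanFinrank.mpr hfg] at hJr
    exact_mod_cast hJr
  obtain ⟨z', hz'⟩ : ∃ z' : Fin h → p.Fiber S, Ideal.span (Set.range z') = J := by
    obtain ⟨s, hscard, hsspan⟩ := Submodule.FG.exists_span_finset_card_eq_spanFinrank hfg
    have hs' : s.card ≤ h := hscard ▸ hcard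
    refine ⟨fun i => if hi : (i : ℕ) < s.card then (s.equivFin.symm ⟨i, hi⟩ : p.Fiber S) else 0,
      le_antisymm ?_ ?_⟩
    · rw [Ideal.span_le]
      rintro _ ⟨i, rfl⟩
      dsimp only
      split_ifs with hi
      · rw [← hsspan]; exact Submodule.subset_span (s.equivFin.symm ⟨i, hi⟩).2
      · exact zero_mem _
    · conv_lhs => rw [← hsspan]
      refine Submodule.span_le.mpr fun x hx => ?_
      refine Submodule.subset_span ⟨Fin.castLE hs' (s.equivFin ⟨x, hx⟩), ?_⟩
      simp
  refine ⟨y, fun j => g (z' j), hyb, fun j => ?_, fun P' hP' hle hz => ?_⟩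
  · rw [← hg]
    exact Ideal.mul_mem_left _ _ (hJP (hz' ▸ Ideal.subset_span ⟨j, rfl⟩))
  · have hJP' : J ≤ P' := by
      rw [← hz', Ideal.span_le]
      rintro _ ⟨j, rfl⟩
      have h1 := hz j
      rw [← hg] at h1
      refine (hP'.mem_or_mem h1).resolve_left fun h => hP'.ne_top ?_
      exact Ideal.eq_top_of_isUnit_mem _ h ((isUnit_iff_ne_zero.mpr (hc _)).map _)
    refine le_antisymm hle ?_
    by_contra hne
    haveI := hP'
    have h1 : P'.height < P.height :=
      Ideal.height_strict_mono_of_isPrime (lt_of_le_of_ne hle fun h => hne h.ge)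
    have h2 := hJh.trans (Ideal.height_mono hJP')
    rw [hh] at h1
    exact absurd h1 (not_lt.mpr h2)

end Groth.Agent.QFNormLib
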