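import Groth.Agent.QFNormLib.Basic

/-!
Quasi-finiteness of coordinate maps at a prime.
-/

set_option autoImplicit false
set_option linter.unusedSectionVars false
universe u

open TensorProduct MvPolynomial

noncomputable section

namespace Groth.Agent.QFNormLib

variable {R S : Type u} [CommRing R] [CommRing S] [Algebra R S] [Algebra.FiniteType R S]
  (p : Ideal R) [p.IsPrime] (q : Ideal S) [q.IsPrime] [q.LiesOver p]

theorem fibre_prime_ext {P P' : Ideal (p.Fiber S)} [P.IsPrime] [P'.IsPrime]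
    (h : P.comap (Algebra.TensorProduct.includeRight.toRingHom) =
      P'.comap (Algebra.TensorProduct.includeRight.toRingHom)) : P = P' := by
  have h1 := (PrimeSpectrum.primesOverOrderIsoFiber R S p).symm.injective
    (a₁ := ⟨P, ‹_›⟩) (a₂ := ⟨P', ‹_›⟩) (Subtype.ext (by
      rw [PrimeSpectrum.coe_primesOverOrderIsoFiber_symm_apply,
        PrimeSpectrum.coe_primesOverOrderIsoFiber_symm_apply]
      exact h))
  exact congrArg PrimeSpectrum.asIdeal h1

theorem mem_iff_one_tmul {P : Ideal (p.Fiber S)}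
    (hP : P.comap (Algebra.TensorProduct.includeRight.toRingHom) = q) (s : S) :
    (1 : p.ResidueField) ⊗ₜ[R] s ∈ P ↔ s ∈ q := by
  rw [← hP]; rfl

/-- A nonzero ideal contains a nonzero polynomial in a transcendence basis. -/
theorem exists_aeval_mem {k A : Type u} [Field k] [CommRing A] [IsDomain A] [Algebra k A] {r : ℕ}
    {v : Fin r → A} (hv : IsTranscendenceBasis k v) (I : Ideal A) {a : A} (ha : a ≠ 0) (haI : a ∈ I) :
    ∃ g : MvPolynomial (Fin r) k, MvPolynomial.aeval v g ≠ 0 ∧ MvPolynomial.aeval v g ∈ I := by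
  have halg : IsAlgebraic (Algebra.adjoin k (Set.range v)) a := hv.isAlgebraic.isAlgebraic _
  have hne := Ideal.comap_ne_bot_of_algebraic_mem ha haI halg
  obtain ⟨w, hwI, hw0⟩ := Submodule.exists_mem_ne_zero_of_ne_bot hne
  have hw : (w : A) ∈ (MvPolynomial.aeval v : MvPolynomial (Fin r) k →ₐ[k] A).range := by
    rw [← Algebra.adjoin_range_eq_range_aeval]; exact w.2
  obtain ⟨g, hg⟩ := hw
  change MvPolynomial.aeval v g = (w : A) at hg
  exact ⟨g, fun h => hw0 (Subtype.ext (hg ▸ h)), hg ▸ hwI⟩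

variable {n r : ℕ} (y : Fin n → S) (P : Ideal (p.Fiber S)) [P.IsPrime]
  (hP : P.comap (Algebra.TensorProduct.includeRight.toRingHom) = q) (hrn : r ≤ n)
  (hb : IsTranscendenceBasis p.ResidueField
    (fun i : Fin r => Ideal.Quotient.mk P ((1 : p.ResidueField) ⊗ₜ[R] y (Fin.castLE hrn i))))
  (hy : ∀ j : Fin n, r ≤ (j : ℕ) → (1 : p.ResidueField) ⊗ₜ[R] y j ∈ P)
  (hmin : ∀ P' : Ideal (p.Fiber S), P'.IsPrime → P' ≤ P →
    (∀ j : Fin n, r ≤ (j : ℕ) → (1 : p.ResidueField) ⊗ₜ[R] y j ∈ P') → P' = P)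

/-- Base change of a polynomial evaluation to the fibre. -/
theorem aeval_fibre {σ : Type} (v : σ → S) (G : MvPolynomial σ R) :
    (1 : p.ResidueField) ⊗ₜ[R] (MvPolynomial.aeval v G) =
      MvPolynomial.aeval (fun i => (1 : p.ResidueField) ⊗ₜ[R] v i)
        (MvPolynomial.map (algebraMap R p.ResidueField) G) := by
  rw [MvPolynomial.aeval_map_algebraMap]
  exact congrArg (fun f : MvPolynomial σ R →ₐ[R] p.Fiber S => f G)
    (MvPolynomial.comp_aeval v (Algebra.TensorProduct.includeRight : S →ₐ[R] p.Fiber S))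

include hP hrn hb hy in
theorem comap_aeval :
    q.comap (MvPolynomial.aeval y : MvPolynomial (Fin n) R →ₐ[R] S).toRingHom =
      p.map (algebraMap R (MvPolynomial (Fin n) R)) ⊔
        Ideal.span (Set.range fun i : {i : Fin n // r ≤ (i : ℕ)} =>
          (MvPolynomial.X (i : Fin n) : MvPolynomial (Fin n) R)) := by
  classical
  let K : Ideal (MvPolynomial (Fin n) R) := p.map (algebraMap R (MvPolynomial (Fin n) R)) ⊔
    Ideal.span (Set.range fun i : {i : Fin n // r ≤ (i : ℕ)} =>
      (MvPolynomial.X (i : Fin n) : MvPolynomial (Fin n) R))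
  change _ = K
  refine le_antisymm (fun G hG => ?_) (sup_le ?_ ?_)
  · let θ : MvPolynomial (Fin n) R →ₐ[R] MvPolynomial (Fin r) R :=
      MvPolynomial.aeval fun j => if hj : (j : ℕ) < r then MvPolynomial.X ⟨j, hj⟩ else 0
    let ι : MvPolynomial (Fin r) R →ₐ[R] MvPolynomial (Fin n) R :=
      MvPolynomial.rename (Fin.castLE hrn)
    have h1 : Ideal.Quotient.mk K (ι (θ G)) = Ideal.Quotient.mk K G := by
      have he : ((Ideal.Quotient.mkₐ R K).comp ι).comp θ = Ideal.Quotient.mkₐ R K := by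
        refine MvPolynomial.algHom_ext fun j => ?_
        simp only [AlgHom.comp_apply, θ, MvPolynomial.aeval_X]
        split_ifs with hj
        · simp [ι, MvPolynomial.rename_X]
        · rw [map_zero, map_zero]
          have hm : (MvPolynomial.X j : MvPolynomial (Fin n) R) ∈ K :=
            Ideal.mem_sup_right (Ideal.subset_span ⟨(⟨j, not_lt.mp hj⟩ : {i : Fin n // r ≤ (i : ℕ)}), rfl⟩)
          exact (Ideal.Quotient.eq_zero_iff_mem.mpr hm).symm
      exact AlgHom.congr_fun he G
    have h2 : MvPolynomial.map (algebraMap R p.ResidueField) (θ G) = 0 := by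
      apply hb.1.eq_zero_of_aeval_eq_zero
      have h3 : Ideal.Quotient.mk P ((1 : p.ResidueField) ⊗ₜ[R] MvPolynomial.aeval y G) = 0 :=
        Ideal.Quotient.eq_zero_iff_mem.mpr ((mem_iff_one_tmul p q hP _).mpr hG)
      rw [aeval_fibre] at h3
      rw [← h3, MvPolynomial.aeval_map_algebraMap, MvPolynomial.aeval_map_algebraMap]
      change ((MvPolynomial.aeval _).comp θ) G =
        ((Ideal.Quotient.mkₐ R P).comp (MvPolynomial.aeval _)) G
      refine AlgHom.congr_fun (MvPolynomial.algHom_ext fun j => ?_) G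
      simp only [AlgHom.comp_apply, θ, MvPolynomial.aeval_X]
      split_ifs with hj
      · rw [MvPolynomial.aeval_X]; rfl
      · rw [map_zero]
        exact ((Ideal.Quotient.eq_zero_iff_mem).mpr (hy j (not_lt.mp hj))).symm
    have h4 : θ G ∈ p.map (MvPolynomial.C (σ := Fin r) (R := R)) := by
      refine MvPolynomial.mem_map_C_iff.mpr fun m => ?_
      have := congrArg (MvPolynomial.coeff m) h2
      rw [MvPolynomial.coeff_map, MvPolynomial.coeff_zero] at this
      exact Ideal.algebraMap_residueField_eq_zero.mp this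
    have h5 : ι (θ G) ∈ K := by
      refine Ideal.mem_sup_left ?_
      have h6 := Ideal.mem_map_of_mem ι.toRingHom h4
      rw [Ideal.map_map] at h6
      rwa [show (ι.toRingHom).comp (MvPolynomial.C (σ := Fin r) (R := R)) =
        algebraMap R (MvPolynomial (Fin n) R) from RingHom.ext fun a => ι.commutes a] at h6
    rwa [← Ideal.Quotient.eq_zero_iff_mem, ← h1, Ideal.Quotient.eq_zero_iff_mem]
  · rw [Ideal.map_le_iff_le_comap]
    intro a ha
    rw [Ideal.mem_comap, Ideal.mem_comap]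
    change MvPolynomial.aeval y (algebraMap R (MvPolynomial (Fin n) R) a) ∈ q
    rw [AlgHom.commutes, ← Ideal.mem_comap]
    rwa [show q.comap (algebraMap R S) = p from (Ideal.over_def q p).symm]
  · rw [Ideal.span_le]
    rintro _ ⟨⟨j, hj⟩, rfl⟩
    change MvPolynomial.aeval y (MvPolynomial.X j) ∈ q
    rw [MvPolynomial.aeval_X, ← mem_iff_one_tmul p q hP]
    exact hy j hj

include hP hrn hb hy hmin in
theorem quasiFiniteAt_aeval :
    letI := (MvPolynomial.aeval y : MvPolynomial (Fin n) R →ₐ[R] S).toRingHom.toAlgebra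
    Algebra.QuasiFiniteAt (MvPolynomial (Fin n) R) q := by
  letI := (MvPolynomial.aeval y : MvPolynomial (Fin n) R →ₐ[R] S).toRingHom.toAlgebra
  haveI : IsScalarTower R (MvPolynomial (Fin n) R) S :=
    .of_algebraMap_eq fun a => ((MvPolynomial.aeval y : MvPolynomial (Fin n) R →ₐ[R] S).commutes a).symm
  haveI : Algebra.FiniteType (MvPolynomial (Fin n) R) S :=
    Algebra.FiniteType.of_restrictScalars_finiteType R _ S
  let pt := q.comap (algebraMap (MvPolynomial (Fin n) R) S)
  haveI : pt.IsPrime := Ideal.IsPrime.comap _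
  refine (Groth.Agent.EtaleDec.quasiFiniteAt_iff_isoPrimes pt ⟨q, ‹_›, ⟨rfl⟩⟩).mpr ?_
  suffices h : ∀ q' : Ideal S, q'.IsPrime → q'.comap (algebraMap (MvPolynomial (Fin n) R) S) = pt →
      (q' ≤ q ∨ q ≤ q') → q' = q by
    refine ⟨fun z hz => ?_, fun z hz => ?_⟩
    · exact le_of_eq (Subtype.ext (h z.1 z.2.1 z.2.2.over.symm (Or.inl hz)).symm)
    · exact le_of_eq (Subtype.ext (h z.1 z.2.1 z.2.2.over.symm (Or.inr hz)))
  intro q' hq' hpt hcmp
  haveI := hq'
  haveI : q'.LiesOver p := ⟨by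
    rw [Ideal.under_def, IsScalarTower.algebraMap_eq R (MvPolynomial (Fin n) R) S, ← Ideal.comap_comap, hpt,
      Ideal.comap_comap, ← IsScalarTower.algebraMap_eq]
    exact Ideal.over_def q p⟩
  let Φ := PrimeSpectrum.primesOverOrderIsoFiber R S p
  let P' := (Φ ⟨q', hq', ‹_›⟩).asIdeal
  have hP' : P'.comap (Algebra.TensorProduct.includeRight.toRingHom) = q' := by
    have := congrArg Subtype.val (Φ.symm_apply_apply ⟨q', hq', ‹_›⟩)
    rwa [PrimeSpectrum.coe_primesOverOrderIsoFiber_symm_apply] at this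
  have hPeq : (Φ ⟨q, ‹_›, ‹_›⟩).asIdeal = P := fibre_prime_ext p (by
    rw [hP]
    have := congrArg Subtype.val (Φ.symm_apply_apply ⟨q, ‹_›, ‹_›⟩)
    rwa [PrimeSpectrum.coe_primesOverOrderIsoFiber_symm_apply] at this)
  have hP'z : ∀ j : Fin n, r ≤ (j : ℕ) → (1 : p.ResidueField) ⊗ₜ[R] y j ∈ P' := fun j hj => by
    rw [mem_iff_one_tmul p q' hP']
    have h1 : MvPolynomial.X j ∈ pt := by
      change MvPolynomial.aeval y (MvPolynomial.X j) ∈ q
      rw [MvPolynomial.aeval_X, ← mem_iff_one_tmul p q hP]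
      exact hy j hj
    rw [← hpt] at h1
    change MvPolynomial.aeval y (MvPolynomial.X j) ∈ q' at h1
    rwa [MvPolynomial.aeval_X] at h1
  rcases hcmp with hle | hle
  · have h1 : P' ≤ P := hPeq ▸ (Φ.monotone (show (⟨q', hq', ‹_›⟩ : p.primesOver S) ≤ ⟨q, ‹_›, ‹_›⟩ from hle))
    have h2 := hmin P' inferInstance h1 hP'z
    rw [← hP', h2, hP]
  · have h1 : P ≤ P' := hPeq ▸ (Φ.monotone (show (⟨q, ‹_›, ‹_›⟩ : p.primesOver S) ≤ ⟨q', hq', ‹_›⟩ from hle))
    suffices h2 : P' ≤ P by rw [← hP', le_antisymm h2 h1, hP]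
    intro x hx
    by_contra hxP
    -- a nonzero algebraic element of the image of `P'`
    let v : Fin r → p.Fiber S ⧸ P :=
      fun i => Ideal.Quotient.mk P ((1 : p.ResidueField) ⊗ₜ[R] y (Fin.castLE hrn i))
    obtain ⟨g, hg0, hwP⟩ := exists_aeval_mem (k := p.ResidueField) (A := p.Fiber S ⧸ P) (v := v) hb (P'.map (Ideal.Quotient.mk P))
      (mt Ideal.Quotient.eq_zero_iff_mem.mp hxP) (Ideal.mem_map_of_mem _ hx)
    obtain ⟨d, hd, G, hG⟩ := exists_map_eq p g
    let H : MvPolynomial (Fin n) R := MvPolynomial.rename (Fin.castLE hrn) G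
    have hH : Ideal.Quotient.mk P ((1 : p.ResidueField) ⊗ₜ[R] MvPolynomial.aeval y H) =
        MvPolynomial.aeval v (MvPolynomial.C (algebraMap R p.ResidueField d) * g) := by
      rw [aeval_fibre, MvPolynomial.map_rename, MvPolynomial.aeval_rename,
        ← Ideal.Quotient.mkₐ_eq_mk p.ResidueField, ← AlgHom.comp_apply, hG]
      refine AlgHom.congr_fun (MvPolynomial.algHom_ext fun i => ?_) _
      rw [AlgHom.comp_apply, MvPolynomial.aeval_X, MvPolynomial.aeval_X]
      rfl
    have h3 : H ∈ pt := by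
      rw [← hpt]
      change MvPolynomial.aeval y H ∈ q'
      rw [← mem_iff_one_tmul p q' hP']
      have h4 : Ideal.Quotient.mk P ((1 : p.ResidueField) ⊗ₜ[R] MvPolynomial.aeval y H) ∈
          P'.map (Ideal.Quotient.mk P) := by
        rw [hH, map_mul]; exact Ideal.mul_mem_left _ _ hwP
      have h5 := Ideal.mem_comap.mpr h4
      rwa [Ideal.comap_map_quotientMk, sup_eq_right.mpr h1] at h5
    change MvPolynomial.aeval y H ∈ q at h3
    rw [← mem_iff_one_tmul p q hP, ← Ideal.Quotient.eq_zero_iff_mem, hH, map_mul, MvPolynomial.aeval_C] at h3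
    refine hg0 (((IsUnit.map _ (isUnit_iff_ne_zero.mpr fun h => hd
      (Ideal.algebraMap_residueField_eq_zero.mp h))).mul_right_eq_zero).mp h3)

end Groth.Agent.QFNormLib
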